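import Groth.Agent.Ega2.GeoRelDim
import Groth.Agent.Dual.H375.SmoothDim
import Groth.Agent.Flat2B.SmoothGeom

/-!
# The relative dimension of a smooth morphism from its geometric fibres
-/

set_option autoImplicit false
universe u

open CategoryTheory CategoryTheory.Limits AlgebraicGeometry TopologicalSpace

namespace K824.RelDimGeo

open Groth.Agent Groth.Agent.Ega2.GeoRelDim

/-- A smooth morphism whose geometric fibres are irreducible of dimension `n` is smooth of relative
dimension `n`. -/
theorem smoothOfRelativeDimension_of_geometric {X S : Scheme.{u}} (f : X ⟶ S) [Smooth f] (n : ℕ)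
    (h : ∀ (Ω : Type u) [Field Ω] [IsAlgClosed Ω] (σ : Spec (CommRingCat.of Ω) ⟶ S),
      IrreducibleSpace ↥(pullback f σ) ∧ topologicalKrullDim ↥(pullback f σ) = n) :
    SmoothOfRelativeDimension n f := by
  have := HasRingHomProperty.instIsZariskiLocalAtSource (P := @SmoothOfRelativeDimension.{u} n)
  have key : ∀ x : X, ∃ V : X.Opens, x ∈ V ∧ SmoothOfRelativeDimension n (V.ι ≫ f) := by
    intro x
    obtain ⟨V, m, hxV, hV⟩ := Dual.H375.SmoothDim.exists_relDim f x
    refine ⟨V, hxV, ?_⟩
    let Ω := AlgebraicClosure (S.residueField (f x))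
    let σ : Spec (CommRingCat.of Ω) ⟶ S :=
      Spec.map (CommRingCat.ofHom (algebraMap (S.residueField (f x)) Ω)) ≫
        S.fromSpecResidueField (f x)
    obtain ⟨h1, h2⟩ := h Ω σ
    have h3 : IsReduced (pullback f σ) :=
      Groth.Agent.Flat2B.SmoothGeom.isReduced_of_smooth (pullback.snd f σ)
    have h4 : IsIntegral (pullback f σ) := isIntegral_of_irreducibleSpace_of_isReduced _
    have h5 : SmoothOfRelativeDimension n (pullback.snd f σ) :=
      Picfga.CurveRelDim.smoothOfRelativeDimension_of_topologicalKrullDim_eq Ω _ _ n h2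
    -- a point above `x`
    let pt : ↥(Spec (CommRingCat.of Ω)) := IsLocalRing.closedPoint Ω
    have hpt : σ pt = f x := by
      have : σ pt = S.fromSpecResidueField (f x)
        (Spec.map (CommRingCat.ofHom (algebraMap (S.residueField (f x)) Ω)) pt) := rfl
      exact this.trans (Scheme.fromSpecResidueField_apply _ _)
    obtain ⟨z, hz, -⟩ := Scheme.Pullback.exists_preimage_pullback (f := V.ι ≫ f) (g := σ)
      ⟨x, hxV⟩ pt hpt.symm
    let k : pullback (V.ι ≫ f) σ ⟶ pullback f σ :=
      pullback.lift (pullback.fst _ _ ≫ V.ι) (pullback.snd _ _) (by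
        rw [Category.assoc]; exact pullback.condition)
    have hk : k ≫ pullback.snd f σ = pullback.snd (V.ι ≫ f) σ := pullback.lift_snd _ _ _
    have hsq : IsPullback (pullback.fst (V.ι ≫ f) σ) k V.ι (pullback.fst f σ) := by
      refine IsPullback.of_bot (h₃₁ := σ) (v₂₁ := pullback.snd f σ) (v₂₂ := f) ?_ ?_ ?_
      · rw [hk]
        exact IsPullback.of_hasPullback _ _
      · exact (pullback.lift_fst _ _ _).symm
      · exact IsPullback.of_hasPullback _ _
    have hkI : IsOpenImmersion k := MorphismProperty.of_isPullback hsq inferInstance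
    have h6 : SmoothOfRelativeDimension n (pullback.snd (V.ι ≫ f) σ) := by
      have h7 : SmoothOfRelativeDimension (0 + n) (k ≫ pullback.snd f σ) := inferInstance
      rw [hk, zero_add] at h7
      exact h7
    have h8 : SmoothOfRelativeDimension m (pullback.snd (V.ι ≫ f) σ) :=
      relDim_of_isPullback (IsPullback.of_hasPullback _ _) hV
    have h9 : n = m := relDim_unique _ n m h6 h8 z
    rw [h9]
    exact hV
  choose V hxV hV using key
  rw [IsZariskiLocalAtSource.iff_of_iSup_eq_top (P := @SmoothOfRelativeDimension.{u} n) V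
    (top_le_iff.mp fun x _ => TopologicalSpace.Opens.mem_iSup.mpr ⟨x, hxV x⟩)]
  exact hV

end K824.RelDimGeo
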