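import Mathlib.Topology.Connected.Clopen
import Mathlib.Topology.Separation.Basic
import Mathlib.Topology.Compactness.Compact

/-!
# Chains of closed sets in a connected space
-/

set_option autoImplicit false

open TopologicalSpace

namespace K824.TopChain

/-- If a connected space is covered by finitely many closed sets, then a relation which relates the
closed points in each of them relates all closed points. -/
theorem chain {Y : Type*} [TopologicalSpace Y] [ConnectedSpace Y] [CompactSpace Y] [T0Space Y]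
    {ι : Type*} [Finite ι] (T : ι → Set Y) (hT : ∀ j, IsClosed (T j)) (hcov : ∀ y, ∃ j, y ∈ T j)
    (R : Y → Y → Prop) (htrans : ∀ x y z, R x y → R y z → R x z)
    (h : ∀ j, ∀ x ∈ T j, ∀ y ∈ T j, IsClosed ({x} : Set Y) → IsClosed ({y} : Set Y) → R x y)
    (x y : Y) (hx : IsClosed ({x} : Set Y)) (hy : IsClosed ({y} : Set Y)) : R x y := by
  classical
  let G : ι → Prop := fun j => ∃ z ∈ T j, IsClosed ({z} : Set Y) ∧ R x z
  have hG : ∀ j, G j → ∀ z ∈ T j, IsClosed ({z} : Set Y) → R x z := by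
    rintro j ⟨w, hw, hwc, hxw⟩ z hz hzc
    exact htrans _ _ _ hxw (h j w hw z hz hwc hzc)
  let A : Set Y := ⋃ j : {j // G j}, T j.1
  let B : Set Y := ⋃ j : {j // ¬ G j}, T j.1
  have hA : IsClosed A := isClosed_iUnion_of_finite fun j => hT j.1
  have hB : IsClosed B := isClosed_iUnion_of_finite fun j => hT j.1
  obtain ⟨j₀, hj₀⟩ := hcov x
  have hGj₀ : G j₀ := ⟨x, hj₀, hx, h j₀ x hj₀ x hj₀ hx hx⟩
  have hdisj : A ∩ B = ∅ := by
    by_contra hne
    rw [← Ne, ← Set.nonempty_iff_ne_empty] at hne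
    obtain ⟨w, hwA, hwB⟩ := hne
    obtain ⟨⟨i, hi⟩, hwi⟩ := Set.mem_iUnion.1 hwA
    obtain ⟨⟨j, hj⟩, hwj⟩ := Set.mem_iUnion.1 hwB
    obtain ⟨z, hz, hzc⟩ := ((hT i).inter (hT j)).exists_closed_singleton ⟨w, hwi, hwj⟩
    exact hj ⟨z, hz.2, hzc, hG i hi z hz.1 hzc⟩
  have hunion : A ∪ B = Set.univ := by
    rw [Set.eq_univ_iff_forall]
    intro w
    obtain ⟨j, hj⟩ := hcov w
    by_cases hg : G j
    · left; exact Set.mem_iUnion.2 ⟨⟨j, hg⟩, hj⟩
    · right; exact Set.mem_iUnion.2 ⟨⟨j, hg⟩, hj⟩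
  have hclopen : IsClopen A := by
    refine ⟨hA, ?_⟩
    have : A = Bᶜ := by
      ext w
      constructor
      · intro hwA hwB
        have : w ∈ A ∩ B := ⟨hwA, hwB⟩
        rw [hdisj] at this
        exact this
      · intro hwB
        have : w ∈ A ∪ B := by rw [hunion]; trivial
        exact this.resolve_right hwB
    rw [this]
    exact hB.isOpen_compl
  have hAuniv : A = Set.univ := by
    rcases isClopen_iff.1 hclopen with h0 | h0
    · exfalso
      have : x ∈ A := Set.mem_iUnion.2 ⟨⟨j₀, hGj₀⟩, hj₀⟩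
      rw [h0] at this
      exact this
    · exact h0
  have hyA : y ∈ A := by rw [hAuniv]; trivial
  obtain ⟨⟨j, hj⟩, hyj⟩ := Set.mem_iUnion.1 hyA
  exact hG j hj y hyj hy

end K824.TopChain
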