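import Groth.Agent.An.K824.AffGen
import Groth.Agent.Ega2.WeightPull
import Groth.Agent.CohqB.AmpGeneric
import Groth.Prelude.Def_LCI2

/-!
# Relative ampleness and affineness of nonvanishing loci
-/

set_option autoImplicit false
universe u
open CategoryTheory CategoryTheory.Limits AlgebraicGeometry TopologicalSpace Opposite

namespace K824.AffRel

theorem isAffineOpen_of_isAmple_restrict {X S : Scheme.{u}} (f : X ⟶ S) [IsProper f]
    {L : X.Modules} (hinv : PicF.IsInvertible L) (s : Coh.structureModule X ⟶ L)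
    {V : S.Opens} (hV : IsAffineOpen V) (h : CohB1.IsAmple (L.restrict (f ⁻¹ᵁ V).ι)) :
    IsAffineOpen (CohB1.genLocus L s ⊓ f ⁻¹ᵁ V) := by
  have hA' : CohB1.IsAmple ((Scheme.Modules.pullback (f ⁻¹ᵁ V).ι).obj L) :=
    Groth.Agent.CohqB.AmpCocycle.isAmple_of_iso
      ((Scheme.Modules.restrictFunctorIsoPullback (f ⁻¹ᵁ V).ι).app L) h
  have h0 : IsProper (f ∣_ V) := inferInstance
  let p : (f ⁻¹ᵁ V : Scheme.{u}) ⟶ Spec Γ(S, V) := (f ∣_ V) ≫ hV.isoSpec.hom
  have hp : IsProper p := inferInstance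
  have h1 := K824.AffGen.isAffineOpen_genLocus (R := Γ(S, V)) p hA'
    (Groth.Agent.Ega2.Weight.pullHom (f ⁻¹ᵁ V).ι s)
  rw [Groth.Agent.Ega2.Weight.genLocus_pullHom _ hinv] at h1
  have h2 := h1.image_of_isOpenImmersion (f ⁻¹ᵁ V).ι
  rw [Scheme.Hom.image_preimage_eq_opensRange_inf, Scheme.Opens.opensRange_ι, inf_comm] at h2
  exact h2

end K824.AffRel
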