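import Groth.Prelude.Def_AnFib
import Mathlib.AlgebraicGeometry.PullbackCarrier
import Mathlib.AlgebraicGeometry.Geometrically.Basic

/-!
# Base change of elementary fibrations
-/

set_option autoImplicit false
universe u

open CategoryTheory CategoryTheory.Limits AlgebraicGeometry TopologicalSpace

namespace K824.ElemFibBC

theorem range_of_isPullback {P X Y Z : Scheme.{u}} {fst : P ⟶ X} {snd : P ⟶ Y} {f : X ⟶ Z}
    {g : Y ⟶ Z} (h : IsPullback fst snd f g) :
    Set.range snd.base = g.base ⁻¹' Set.range f.base := by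
  have h1 : snd = h.isoPullback.hom ≫ pullback.snd f g := by simp
  have h2 : Set.range snd.base = Set.range (pullback.snd f g).base := by
    rw [h1]
    exact (Scheme.Hom.comp_base _ _ ▸ (Function.Surjective.range_comp h.isoPullback.hom.surjective _))
  rw [h2]
  exact Scheme.Pullback.range_snd f g

/-- `P^n_S ⟶ P^n_ℤ` -/
noncomputable abbrev toPZ (n : ℕ) (S : Scheme.{u}) :
    CohB1.ProjSpaceOver n S ⟶ CohB1.ProjSpace n (ULift.{u} ℤ) :=
  pullback.fst (CohB1.ProjSpace.toSpec n (ULift.{u} ℤ)) (specULiftZIsTerminal.from S)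

theorem isPullback_toPZ (n : ℕ) (S : Scheme.{u}) :
    IsPullback (toPZ n S) (CohB1.ProjSpaceOver.toBase n S)
      (CohB1.ProjSpace.toSpec n (ULift.{u} ℤ)) (specULiftZIsTerminal.from S) :=
  IsPullback.of_hasPullback _ _

/-- `P^n_T ⟶ P^n_S` is the base change of `T ⟶ S`. -/
theorem exists_isPullback_projSpaceOver (n : ℕ) {T S : Scheme.{u}} (φ : T ⟶ S) :
    ∃ g : CohB1.ProjSpaceOver n T ⟶ CohB1.ProjSpaceOver n S,
      IsPullback g (CohB1.ProjSpaceOver.toBase n T) (CohB1.ProjSpaceOver.toBase n S) φ := by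
  have h1 := isPullback_toPZ n S
  have h2 := isPullback_toPZ n T
  have h3 : φ ≫ specULiftZIsTerminal.from S = specULiftZIsTerminal.from T :=
    specULiftZIsTerminal.hom_ext _ _
  refine ⟨h1.lift (toPZ n T) (CohB1.ProjSpaceOver.toBase n T ≫ φ) (by
    rw [Category.assoc, h3]; exact h2.w), ?_⟩
  refine IsPullback.of_right (h₁₂ := toPZ n S) (v₁₃ := CohB1.ProjSpace.toSpec n (ULift.{u} ℤ))
    (h₂₂ := specULiftZIsTerminal.from S) ?_ (h1.lift_snd _ _ _) h1
  rw [h1.lift_fst, h3]
  exact h2

theorem isStronglyProjective_pullback {X S S' : Scheme.{u}} {f : X ⟶ S}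
    (hf : An.IsStronglyProjective f) (u : S' ⟶ S) :
    An.IsStronglyProjective (pullback.snd f u) := by
  obtain ⟨n, c, hc, rfl⟩ := hf
  obtain ⟨g, hg⟩ := exists_isPullback_projSpaceOver n u
  let c' : pullback (c ≫ CohB1.ProjSpaceOver.toBase n S) u ⟶ CohB1.ProjSpaceOver n S' :=
    hg.lift (pullback.fst _ _ ≫ c) (pullback.snd _ _) (by
      rw [Category.assoc]; exact pullback.condition)
  have h1 : IsPullback (pullback.fst (c ≫ CohB1.ProjSpaceOver.toBase n S) u) c' c g := by
    refine IsPullback.of_bot (h₃₁ := u) (v₂₁ := CohB1.ProjSpaceOver.toBase n S')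
      (v₂₂ := CohB1.ProjSpaceOver.toBase n S) ?_ ?_ ?_
    · rw [hg.lift_snd]
      exact IsPullback.of_hasPullback _ _
    · exact (hg.lift_fst _ _ _).symm
    · exact hg
  refine ⟨n, c', MorphismProperty.of_isPullback h1 hc, hg.lift_snd _ _ _⟩

/-- the set-theoretic fibre of a morphism with irreducible geometric fibres is irreducible -/
theorem isIrreducible_preimage {X S : Scheme.{u}} (f : X ⟶ S)
    (hf : ∀ (Ω : Type u) [Field Ω] [IsAlgClosed Ω] (σ : Spec (CommRingCat.of Ω) ⟶ S),
      IrreducibleSpace ↥(pullback f σ)) (s : S) : IsIrreducible (f.base ⁻¹' {s}) := by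
  let Ω := AlgebraicClosure (S.residueField s)
  let σ : Spec (CommRingCat.of Ω) ⟶ S :=
    Spec.map (CommRingCat.ofHom (algebraMap (S.residueField s) Ω)) ≫ S.fromSpecResidueField s
  have h1 := hf Ω σ
  have h2' : ∀ y, σ.base y = s := fun y => by
    have : σ y = S.fromSpecResidueField s
      (Spec.map (CommRingCat.ofHom (algebraMap (S.residueField s) Ω)) y) := rfl
    exact this.trans (Scheme.fromSpecResidueField_apply _ _)
  have h2 : Set.range σ.base = {s} := by
    have : Nonempty ↥(Spec (CommRingCat.of Ω)) := ⟨IsLocalRing.closedPoint Ω⟩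
    rw [show ⇑σ.base = fun _ => s from funext h2', Set.range_const]
  have h3 : Set.range (pullback.fst f σ).base = f.base ⁻¹' {s} := by
    rw [← h2]
    exact Scheme.Pullback.range_fst f σ
  rw [← h3, ← Set.image_univ]
  have h4 : IsIrreducible (Set.univ : Set ↥(pullback f σ)) :=
    ⟨Set.univ_nonempty, PreirreducibleSpace.isPreirreducible_univ⟩
  exact h4.image _ (pullback.fst f σ).continuous.continuousOn

/-- The base change of an elementary fibration is an elementary fibration. -/
theorem isElementaryFibration_pullback_snd {X S S' : Scheme.{u}} (f : X ⟶ S) (u : S' ⟶ S)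
    (hf : An.IsElementaryFibration f) : An.IsElementaryFibration (pullback.snd f u) := by
  obtain ⟨Xb, Y, j, fb, i, rfl, hj, hi, hc, hd, hsm, hp, hg, h1, h2, h3⟩ := hf
  let p := pullback.fst fb u
  let fb' := pullback.snd fb u
  have hsq : IsPullback p fb' fb u := IsPullback.of_hasPullback _ _
  let j' : pullback (j ≫ fb) u ⟶ pullback fb u :=
    pullback.lift (pullback.fst _ _ ≫ j) (pullback.snd _ _) (by
      rw [Category.assoc]; exact pullback.condition)
  let i' : pullback (i ≫ fb) u ⟶ pullback fb u :=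
    pullback.lift (pullback.fst _ _ ≫ i) (pullback.snd _ _) (by
      rw [Category.assoc]; exact pullback.condition)
  have hj' : j' ≫ fb' = pullback.snd _ _ := pullback.lift_snd _ _ _
  have hi' : i' ≫ fb' = pullback.snd _ _ := pullback.lift_snd _ _ _
  have hsqj : IsPullback (pullback.fst (j ≫ fb) u) j' j p := by
    refine IsPullback.of_bot (h₃₁ := u) (v₂₁ := fb') (v₂₂ := fb) ?_ ?_ hsq
    · rw [hj']
      exact IsPullback.of_hasPullback _ _
    · exact (pullback.lift_fst _ _ _).symm
  have hsqi : IsPullback (pullback.fst (i ≫ fb) u) i' i p := by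
    refine IsPullback.of_bot (h₃₁ := u) (v₂₁ := fb') (v₂₂ := fb) ?_ ?_ hsq
    · rw [hi']
      exact IsPullback.of_hasPullback _ _
    · exact (pullback.lift_fst _ _ _).symm
  have hrj := range_of_isPullback hsqj
  have hri := range_of_isPullback hsqi
  have hgeo : ∀ (Ω : Type u) [Field Ω] [IsAlgClosed Ω] (σ : Spec (CommRingCat.of Ω) ⟶ S'),
      IrreducibleSpace ↥(pullback fb' σ) ∧ topologicalKrullDim ↥(pullback fb' σ) = 1 := by
    intro Ω _ _ σ
    obtain ⟨h4, h5⟩ := hg Ω (σ ≫ u)
    let e : pullback fb' σ ≅ pullback fb (σ ≫ u) := pullbackLeftPullbackSndIso fb u σ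
    let e' : ↥(pullback fb' σ) ≃ₜ ↥(pullback fb (σ ≫ u)) := Scheme.homeoOfIso e
    exact ⟨Function.Surjective.irreducibleSpace e'.symm.continuous e'.symm.surjective,
      (e'.isHomeomorph.topologicalKrullDim_eq _).trans h5⟩
  refine ⟨pullback fb u, pullback (i ≫ fb) u, j', fb', i', hj',
    MorphismProperty.of_isPullback hsqj hj, MorphismProperty.of_isPullback hsqi hi, ?_, ?_, inferInstance,
    isStronglyProjective_pullback hp u, hgeo, ?_, ?_, ?_⟩
  · rw [hrj, hri, hc]
    rfl
  · intro s'
    have hirr := isIrreducible_preimage fb' (fun Ω _ _ σ => (hgeo Ω σ).1) s'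
    obtain ⟨y, hy⟩ := h3 (u.base s')
    have h4 : i.base y ∈ fb.base ⁻¹' {u.base s'} := by
      simp only [Set.mem_preimage, Set.mem_singleton_iff]
      rw [← hy]; rfl
    have h5 := hd (u.base s') h4
    have h6 : (Set.range j.base ∩ fb.base ⁻¹' {u.base s'}).Nonempty := by
      rw [← closure_nonempty_iff]; exact ⟨_, h5⟩
    obtain ⟨_, ⟨x, rfl⟩, hx⟩ := h6
    obtain ⟨z, hz1, hz2⟩ := Scheme.Pullback.exists_preimage_pullback (f := fb) (g := u)
      (j.base x) s' hx
    have h7 : (fb'.base ⁻¹' {s'} ∩ Set.range j'.base).Nonempty := by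
      refine ⟨z, hz2, ?_⟩
      rw [hrj]
      exact ⟨x, hz1.symm⟩
    have hopen : IsOpen (Set.range j'.base) := by
      rw [hrj]
      exact hj.base_open.isOpen_range.preimage p.continuous
    have := hirr.2
    rw [Set.inter_comm]
    exact subset_closure_inter_of_isPreirreducible_of_isOpen hirr.2 hopen h7
  · rw [hi']
    infer_instance
  · rw [hi']
    infer_instance
  · rw [hi']
    have h8 : Surjective (i ≫ fb) := ⟨h3⟩
    have h9 : Surjective (pullback.snd (i ≫ fb) u) := inferInstance
    exact h9.1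

end K824.ElemFibBC
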