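import Groth.Prelude.Def_AnFib
import Groth.Agent.An.K824.AffRel
import Groth.Agent.An.K824.ElemFibBC
import Groth.Agent.An.K824.RelDimGeo
import Groth.Agent.VarietyB.ProjSpaceProper
import Groth.Agent.UnramA.SmoothFibreDim
import Groth.Agent.VarietyB.DimTop
import Groth.Agent.Models.H54.PosDeg
import Groth.Agent.Sga7.H543.Van
import Groth.Agent.Grpsch.PicGrp
import Groth.Agent.S1530
import Groth.Agent.S1495
import Groth.Agent.S1184

/-!
# Elementary fibrations are affine
-/

set_option autoImplicit false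
universe u
open CategoryTheory CategoryTheory.Limits AlgebraicGeometry TopologicalSpace Opposite

namespace K824.ElemAff

open Groth.Agent Groth.Agent.Sga7.H543.Van Groth.Agent.Fdesc.LocGen

theorem genLocus_homOf {X : Scheme.{u}} {L : X.Modules} {t : Γ(L, ⊤)} {D : X.IdealSheafData}
    (h : IsVan t D) (x : X) : x ∈ CohB1.genLocus L (homOf t) ↔ x ∉ D.support := by
  obtain ⟨U, hx, e, a, he, ha, h1⟩ := h x
  have h2 : sec (homOf t) U = a • e := by
    rw [sec_homOf]; exact ha
  have h3 := genLocus_inf_eq (homOf t) he h2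
  rw [Divis.CartierBasic.notMem_support_iff_stalkIdeal_eq_top, h1,
    Ideal.span_singleton_eq_top, ← Scheme.mem_basicOpen X a x hx, ← h3]
  exact ⟨fun h => ⟨h, hx⟩, fun h => h.1⟩

theorem isProper_of_isStronglyProjective {X S : Scheme.{u}} {f : X ⟶ S}
    (h : An.IsStronglyProjective f) : IsProper f := by
  obtain ⟨n, c, hc, rfl⟩ := h
  have h1 : IsProper (CohB1.ProjSpaceOver.toBase n S) := by
    have h : IsProper (CohB1.ProjSpace.toSpec n (ULift.{u} ℤ)) :=
      Groth.Agent.VarietyB.ProjSpaceProper.isProper_toSpec n _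
    exact inferInstanceAs (IsProper (pullback.snd _ _))
  infer_instance

theorem topologicalKrullDim_eq_one {k : Type u} [Field k] {X : Scheme.{u}} [IsIntegral X]
    (f : X ⟶ Spec (CommRingCat.of k)) [SmoothOfRelativeDimension 1 f] :
    topologicalKrullDim X = 1 := by
  rw [VarietyB.DimTop.topologicalKrullDim_eq_iSup_localDim]
  have h : ∀ x : X, FlatMor.localDim X x = 1 := fun x => by
    simpa using UnramA.SmoothFibreDim.localDim_eq 1 f x
  have : Nonempty X := inferInstance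
  simp_rw [h]
  exact ciSup_const

theorem surjective {X S : Scheme.{u}} {f : X ⟶ S} (hf : An.IsElementaryFibration f) :
    Function.Surjective f.base := by
  obtain ⟨Xb, Y, j, fb, i, rfl, hj, hi, hc, hd, hsm, hp, hg, h1, h2, h3⟩ := hf
  intro s
  obtain ⟨y, hy⟩ := h3 s
  have h4 : i.base y ∈ fb.base ⁻¹' {s} := by
    simp only [Set.mem_preimage, Set.mem_singleton_iff]
    rw [← hy]; rfl
  have h5 := hd s h4
  have h6 : (Set.range j.base ∩ fb.base ⁻¹' {s}).Nonempty := by
    rw [← closure_nonempty_iff]; exact ⟨_, h5⟩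
  obtain ⟨_, ⟨x, rfl⟩, hx⟩ := h6
  exact ⟨x, hx⟩

/-- The image of the finite étale multisection of an elementary fibration is an effective Cartier
divisor. -/
theorem isEffCartierIdeal_ker {Xb Y S : Scheme.{u}} (fb : Xb ⟶ S) [SmoothOfRelativeDimension 1 fb]
    (i : Y ⟶ Xb) [IsClosedImmersion i] [IsFinite (i ≫ fb)] [Etale (i ≫ fb)] :
    BlowUp.IsEffCartierIdeal i.ker := by
  refine ((S1184.result fb i.ker).2 ?_).1
  have h1 : i.toImage ≫ i.ker.subschemeι = i := i.toImage_imageι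
  have h2 : IsIso i.toImage := inferInstance
  have h3 : i.ker.subschemeι ≫ fb = inv i.toImage ≫ i ≫ fb := by
    rw [IsIso.eq_inv_comp, ← Category.assoc, h1]
  rw [h3]
  exact ⟨inferInstance, inferInstance, inferInstance⟩

/-- Ampleness of `O(D)` on the fibres. -/
theorem isAmple_fiber {Xb Y S : Scheme.{u}} (fb : Xb ⟶ S) [SmoothOfRelativeDimension 1 fb] [IsProper fb]
    (i : Y ⟶ Xb) [IsClosedImmersion i] [IsFinite (i ≫ fb)] [Etale (i ≫ fb)]
    (hsurj : Function.Surjective (i ≫ fb).base)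
    (hg : ∀ (Ω : Type u) [Field Ω] [IsAlgClosed Ω] (σ : Spec (CommRingCat.of Ω) ⟶ S),
      IrreducibleSpace ↥(pullback fb σ))
    (hd : ∀ s : S, fb.base ⁻¹' {s} ⊆ closure ((Set.range i.base)ᶜ ∩ fb.base ⁻¹' {s}))
    {L : Xb.Modules} (hL : ClSub.IsInverseOf L (ClSub.idealMod i.ker)) (hLinv : PicF.IsInvertible L)
    (s : S) : CohB1.IsAmple ((Scheme.Modules.pullback (fb.fiberι s)).obj L) := by
  let F := fb.fiber s
  have hsupp : (i.ker.support : Set Xb) = Set.range i.base := by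
    rw [Scheme.Hom.support_ker, IsClosed.closure_eq]
    exact i.isClosedEmbedding.isClosed_range
  have hrel : SmoothOfRelativeDimension 1 (fb.fiberToSpecResidueField s) :=
    Ega2.GeoRelDim.relDim_of_isPullback (IsPullback.of_hasPullback _ _) ‹_›
  have hsm : Smooth (fb.fiberToSpecResidueField s) := SmoothOfRelativeDimension.smooth 1 _
  have hprop : IsProper (fb.fiberToSpecResidueField s) :=
    inferInstanceAs (IsProper (pullback.snd _ _))
  let _ : F.Over (Spec (CommRingCat.of (S.residueField s))) := ⟨fb.fiberToSpecResidueField s⟩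
  have hprop' : IsProper (F ↘ (Spec (CommRingCat.of (S.residueField s)))) := hprop
  have hirr0 := ElemFibBC.isIrreducible_preimage fb hg s
  have hirr : IrreducibleSpace F := by
    have h1 : IrreducibleSpace ↥(fb.base ⁻¹' {s}) := Subtype.irreducibleSpace hirr0
    exact Function.Surjective.irreducibleSpace (fb.fiberHomeo s).symm.continuous
      (fb.fiberHomeo s).symm.surjective
  have hred : IsReduced F :=
    Flat2B.SmoothGeom.isReduced_of_smooth (K := S.residueField s) (fb.fiberToSpecResidueField s)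
  have hint : IsIntegral F := isIntegral_of_irreducibleSpace_of_isReduced _
  have hdim : topologicalKrullDim F = 1 :=
    topologicalKrullDim_eq_one (k := S.residueField s) (fb.fiberToSpecResidueField s)
  refine (S1530.result (S.residueField s) F hdim _ ?_).2 ?_
  · exact Fdesc.LocGen.isInvertible_pullback _ hLinv
  · obtain ⟨y, hy⟩ := hsurj s
    have hy' : i y ∈ fb.base ⁻¹' {s} := hy
    have hyF : i y ∈ Set.range (fb.fiberι s) := by
      rw [Scheme.Hom.range_fiberι]; exact hy'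
    obtain ⟨z, hz⟩ := hyF
    refine Models.H54.PosDeg.deg_pos (S.residueField s) hdim (fb.fiberι s)
      (isEffCartierIdeal_ker fb i) ?_ z ?_ L hL
    · have h5 := hd s hy'
      have h6 : ((Set.range i.base)ᶜ ∩ fb.base ⁻¹' {s}).Nonempty := by
        rw [← closure_nonempty_iff]; exact ⟨_, h5⟩
      obtain ⟨x, hx1, hx2⟩ := h6
      have hxF : x ∈ Set.range (fb.fiberι s) := by
        rw [Scheme.Hom.range_fiberι]; exact hx2
      obtain ⟨w, hw⟩ := hxF
      have hopen : IsOpen ((fb.fiberι s) ⁻¹' (Set.range i.base)ᶜ) :=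
        i.isClosedEmbedding.isClosed_range.isOpen_compl.preimage (fb.fiberι s).continuous
      have h7 := (genericPoint_spec (α := F)).mem_open_set_iff hopen
      have h8 : genericPoint F ∈ (fb.fiberι s) ⁻¹' (Set.range i.base)ᶜ :=
        h7.2 ⟨w, trivial, by rw [Set.mem_preimage, hw]; exact hx1⟩
      intro h9
      have h10 : fb.fiberι s (genericPoint F) ∈ (i.ker.support : Set Xb) := h9
      rw [hsupp] at h10
      exact h8 h10
    · change fb.fiberι s z ∈ (i.ker.support : Set Xb)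
      rw [hsupp, hz]
      exact ⟨y, rfl⟩

/-- An elementary fibration is affine. -/
theorem isAffineHom {X S : Scheme.{u}} {f : X ⟶ S} (hf : An.IsElementaryFibration f) :
    IsAffineHom f := by
  obtain ⟨Xb, Y, j, fb, i, rfl, hj, hi, hc, hd, hsm, hp, hg, h1, h2, h3⟩ := hf
  have hprop := isProper_of_isStronglyProjective hp
  have hrel := RelDimGeo.smoothOfRelativeDimension_of_geometric fb 1 hg
  have hD := isEffCartierIdeal_ker fb i
  obtain ⟨L, hLinv, ⟨e⟩⟩ := Grpsch.PicGrp.exists_inverse (Dix.IdealModCartier.isInvertible_idealMod hD)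
  have hL : ClSub.IsInverseOf L (ClSub.idealMod i.ker) := ⟨Ega2.Tens.swap _ _ ≪≫ e⟩
  obtain ⟨t, ht⟩ := exists_canonical hLinv hD hL
  have hsupp : (i.ker.support : Set Xb) = Set.range i.base := by
    rw [Scheme.Hom.support_ker, IsClosed.closure_eq]
    exact i.isClosedEmbedding.isClosed_range
  have hgl : CohB1.genLocus L (homOf t) = j.opensRange := by
    ext x
    change x ∈ CohB1.genLocus L (homOf t) ↔ x ∈ Set.range j.base
    rw [genLocus_homOf ht, hc]
    change x ∉ (i.ker.support : Set Xb) ↔ x ∉ Set.range i.base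
    rw [hsupp]
  refine isAffineHom_of_forall_exists_isAffineOpen _ fun s => ?_
  obtain ⟨V, hsV, -, hV⟩ := S1495.result fb L hLinv s
    (isAmple_fiber fb i h3 (fun Ω _ _ σ => (hg Ω σ).1) (fun s' => hc ▸ hd s') hL hLinv s)
  obtain ⟨_, ⟨W, hW, rfl⟩, hsW, -⟩ := (V : Scheme.{u}).isBasis_affineOpens.exists_subset_of_mem_open
    (Set.mem_univ (⟨s, hsV⟩ : V)) isOpen_univ
  have h4 : CohB1.IsAmple (((Scheme.Modules.pullback (fb ⁻¹ᵁ V).ι).obj L).restrict
      ((fb ∣_ V) ⁻¹ᵁ W).ι) :=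
    CohqB.AmpCocycle.isAmple_of_iso ((Scheme.Modules.restrictFunctor ((fb ∣_ V) ⁻¹ᵁ W).ι).mapIso
      ((Scheme.Modules.restrictFunctorIsoPullback (fb ⁻¹ᵁ V).ι).app L)) (hV ⟨W, hW⟩)
  have h5 := AffRel.isAffineOpen_of_isAmple_restrict (fb ∣_ V)
    (Fdesc.LocGen.isInvertible_pullback _ hLinv)
    (Ega2.Weight.pullHom (fb ⁻¹ᵁ V).ι (homOf t)) hW h4
  rw [Ega2.Weight.genLocus_pullHom _ hLinv, hgl] at h5
  have h6 := h5.image_of_isOpenImmersion (fb ⁻¹ᵁ V).ι
  have h7 : (fb ⁻¹ᵁ V).ι ''ᵁ ((fb ⁻¹ᵁ V).ι ⁻¹ᵁ j.opensRange ⊓ (fb ∣_ V) ⁻¹ᵁ W) =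
      j.opensRange ⊓ fb ⁻¹ᵁ (V.ι ''ᵁ W) := by
    rw [← image_morphismRestrict_preimage]
    ext x
    constructor
    · rintro ⟨y, ⟨hy1, hy2⟩, rfl⟩
      exact ⟨hy1, y, hy2, rfl⟩
    · rintro ⟨hx1, y, hy2, rfl⟩
      exact ⟨y, ⟨hx1, hy2⟩, rfl⟩
  rw [h7] at h6
  refine ⟨V.ι ''ᵁ W, ⟨⟨s, hsV⟩, hsW, rfl⟩, hW.image_of_isOpenImmersion V.ι, ?_⟩
  have h8 : (j ≫ fb) ⁻¹ᵁ (V.ι ''ᵁ W) = j ⁻¹ᵁ (j.opensRange ⊓ fb ⁻¹ᵁ (V.ι ''ᵁ W)) := by
    ext x
    constructor
    · intro hx
      exact ⟨⟨x, rfl⟩, hx⟩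
    · intro hx
      exact hx.2
  rw [h8]
  exact h6.preimage_of_isOpenImmersion j inf_le_left

end K824.ElemAff
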