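import Groth.Agent.An.K824.RootBound
import Groth.Agent.An.H869.Conn
import Mathlib.Analysis.SpecialFunctions.Complex.Log
import Mathlib.RingTheory.Jacobson.Ring

/-!
# Units with a continuous logarithm on the complex points of an affine variety are constant
-/

set_option autoImplicit false

open Topology

namespace K824.LogAlg

/-- A nonzero algebra of finite type over `ℂ` has a complex point. -/
theorem nonempty_algHom (A : Type*) [CommRing A] [Nontrivial A] [Algebra ℂ A] [Algebra.FiniteType ℂ A] :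
    Nonempty (A →ₐ[ℂ] ℂ) := by
  obtain ⟨m, hm⟩ := Ideal.exists_maximal A
  let _ : Field (A ⧸ m) := Ideal.Quotient.field m
  have hfin : Module.Finite ℂ (A ⧸ m) := finite_of_finite_type_of_isJacobsonRing ℂ (A ⧸ m)
  have hbij : Function.Bijective (algebraMap ℂ (A ⧸ m)) :=
    IsAlgClosed.algebraMap_bijective_of_isIntegral
  let e : ℂ ≃ₐ[ℂ] (A ⧸ m) := AlgEquiv.ofBijective (Algebra.ofId ℂ (A ⧸ m)) hbij
  exact ⟨e.symm.toAlgHom.comp (Ideal.Quotient.mkₐ ℂ m)⟩

/-- A unit on an affine variety which has a continuous logarithm on the complex points is constant. -/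
theorem eq_const (A : Type) [CommRing A] [IsDomain A] [Algebra ℂ A] [Algebra.FiniteType ℂ A] (u : A)
    (Λ : (A →ₐ[ℂ] ℂ) → ℂ)
    (hΛ : @Continuous _ _ (TopologicalSpace.induced (fun x (a : A) => x a) Pi.topologicalSpace) _ Λ)
    (hexp : ∀ x : A →ₐ[ℂ] ℂ, Complex.exp (Λ x) = x u) : ∃ c : ℂ, algebraMap ℂ A c = u := by
  by_contra hcon
  let K := FractionRing A
  have hess : Algebra.EssFiniteType ℂ K := .comp ℂ A K
  have htr : Transcendental ℂ (algebraMap A K u) := by
    intro halg
    have hint : IsIntegral ℂ (algebraMap A K u) := halg.isIntegral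
    have h1 : algebraMap A K u ∈ (⊥ : IntermediateField ℂ K) := by
      have : Algebra.IsIntegral ℂ (IntermediateField.adjoin ℂ {algebraMap A K u}) :=
        (IntermediateField.isAlgebraic_adjoin_simple hint).isIntegral
      have h2 := IsAlgClosed.algebraMap_bijective_of_isIntegral (k := ℂ)
        (K := IntermediateField.adjoin ℂ {algebraMap A K u})
      obtain ⟨c, hc⟩ := h2.2 ⟨algebraMap A K u, IntermediateField.mem_adjoin_simple_self ℂ _⟩
      rw [IntermediateField.mem_bot]
      exact ⟨c, congrArg Subtype.val hc⟩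
    rw [IntermediateField.mem_bot] at h1
    obtain ⟨c, hc⟩ := h1
    apply hcon
    refine ⟨c, IsFractionRing.injective A K ?_⟩
    rw [← hc, ← IsScalarTower.algebraMap_apply]
  obtain ⟨L, _, _, y, m, σ, hm, hym, hσ⟩ := RootBound.exists_extension ℂ K htr
  let _ : Algebra ℂ L := ((algebraMap K L).comp (algebraMap ℂ K)).toAlgebra
  have htow : IsScalarTower ℂ K L := IsScalarTower.of_algebraMap_eq fun _ => rfl
  let φ : A →ₐ[ℂ] L := (IsScalarTower.toAlgHom ℂ K L).comp (IsScalarTower.toAlgHom ℂ A K)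
  have hφ : ∀ a, φ a = algebraMap K L (algebraMap A K a) := fun _ => rfl
  let B : Subalgebra ℂ L := φ.range ⊔ Algebra.adjoin ℂ {y}
  have hBfg : B.FG := by
    refine Subalgebra.FG.sup ?_ ?_
    · rw [← Algebra.map_top]
      exact Subalgebra.FG.map φ Algebra.FiniteType.out
    · exact ⟨{y}, by simp⟩
  have hBft : Algebra.FiniteType ℂ B := (Subalgebra.fg_iff_finiteType B).1 hBfg
  have hyB : y ∈ B := (le_sup_right : Algebra.adjoin ℂ {y} ≤ B) (Algebra.self_mem_adjoin_singleton ℂ y)
  have hφB : ∀ a, φ a ∈ B := fun a => (le_sup_left : φ.range ≤ B) ⟨a, rfl⟩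
  have hσB : B ≤ B.comap (σ.restrictScalars ℂ) := by
    refine sup_le ?_ ?_
    · rintro _ ⟨a, rfl⟩
      change σ (φ a) ∈ B
      rw [hφ, σ.commutes, ← hφ]
      exact hφB a
    · rw [Algebra.adjoin_le_iff, Set.singleton_subset_iff]
      change σ y ∈ B
      rw [hσ]
      exact B.neg_mem hyB
  let σ' : B →ₐ[ℂ] B := ((σ.restrictScalars ℂ).comp B.val).codRestrict B fun x => hσB x.2
  let ι : A →ₐ[ℂ] B := φ.codRestrict B hφB
  let yB : B := ⟨y, hyB⟩
  have hσι : σ'.comp ι = ι := by
    ext a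
    change σ (φ a) = φ a
    rw [hφ, σ.commutes]
  have hσy : σ' yB = -yB := Subtype.ext hσ
  have hyu : yB ^ m = ι u := Subtype.ext hym
  let _ : TopologicalSpace (B →ₐ[ℂ] ℂ) :=
    TopologicalSpace.induced (fun x (b : B) => x b) Pi.topologicalSpace
  let _ : TopologicalSpace (A →ₐ[ℂ] ℂ) :=
    TopologicalSpace.induced (fun x (a : A) => x a) Pi.topologicalSpace
  have hind : IsInducing (fun (x : B →ₐ[ℂ] ℂ) (b : B) => x b) := ⟨rfl⟩
  have heval : ∀ b : B, Continuous (fun x : B →ₐ[ℂ] ℂ => x b) := fun b =>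
    (continuous_apply b).comp continuous_induced_dom
  have hpre : IsPreconnected (Set.univ : Set (B →ₐ[ℂ] ℂ)) := by
    have h1 := Groth.Agent.An.H869.Conn.isPreconnected_range B
    rw [← hind.isPreconnected_image, Set.image_univ]
    exact h1
  have hres : Continuous (fun x : B →ₐ[ℂ] ℂ => x.comp ι) := by
    refine continuous_induced_rng.2 (continuous_pi fun a => ?_)
    exact heval (ι a)
  let F : (B →ₐ[ℂ] ℂ) → ℂ := fun x => x yB * Complex.exp (-Λ (x.comp ι) / m)
  have hFc : Continuous F :=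
    (heval yB).mul (Complex.continuous_exp.comp (((hΛ.comp hres).neg).div_const _))
  have hm0 : (m : ℂ) ≠ 0 := by exact_mod_cast hm.ne'
  have hFm : ∀ x, F x ^ m = 1 := by
    intro x
    change (x yB * Complex.exp (-Λ (x.comp ι) / m)) ^ m = 1
    rw [mul_pow, ← map_pow, hyu, ← Complex.exp_nat_mul, mul_div_cancel₀ _ hm0, Complex.exp_neg, hexp]
    have h1 : (x.comp ι) u ≠ 0 := by
      rw [← hexp]; exact Complex.exp_ne_zero _
    exact mul_inv_cancel₀ h1
  have hFσ : ∀ x, F (x.comp σ') = -F x := by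
    intro x
    have h1 : (x.comp σ').comp ι = x.comp ι := by
      rw [AlgHom.comp_assoc, hσι]
    change x (σ' yB) * Complex.exp (-Λ ((x.comp σ').comp ι) / m) =
      -(x yB * Complex.exp (-Λ (x.comp ι) / m))
    rw [h1, hσy, map_neg, neg_mul]
  have hfin : ({z : ℂ | z ^ m = 1}).Finite := by
    have : {z : ℂ | z ^ m = 1} ⊆ ((Polynomial.nthRoots m (1 : ℂ)).toFinset : Set ℂ) := by
      intro z hz
      rw [Finset.mem_coe, Multiset.mem_toFinset, Polynomial.mem_nthRoots hm]
      exact hz
    exact (Finset.finite_toSet _).subset this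
  have hdisc : DiscreteTopology {z : ℂ | z ^ m = 1} := by
    have := hfin.to_subtype
    exact Finite.instDiscreteTopology
  obtain ⟨x⟩ := nonempty_algHom B
  have h2 : F (x.comp σ') = F x :=
    hpre.constant_of_mapsTo (T := {z : ℂ | z ^ m = 1}) ⟨hdisc⟩ hFc.continuousOn (fun x _ => hFm x)
      (Set.mem_univ _) (Set.mem_univ _)
  rw [hFσ] at h2
  have h3 : F x = 0 := by
    have h4 : F x + F x = 0 := by
      nth_rewrite 1 [← h2]
      exact neg_add_cancel _
    have h5 : (2 : ℂ) * F x = 0 := by rw [two_mul]; exact h4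
    exact (mul_eq_zero.1 h5).resolve_left two_ne_zero
  have h6 := hFm x
  rw [h3, zero_pow hm.ne'] at h6
  exact zero_ne_one h6

end K824.LogAlg
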