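import Groth.Agent.An.K824.LogAlg
import Groth.Agent.An.K824.TopChain
import Groth.Agent.An.H14.AffPts
import Groth.Agent.Fga.IntegralSub
import Mathlib.Analysis.Complex.CoveringMap
import Mathlib.Topology.Homotopy.Lifting

/-!
# Null-homotopic units are constant
-/

set_option autoImplicit false

open CategoryTheory AlgebraicGeometry TopologicalSpace Topology
open Groth.Agent.An.H863.PtsBasic Groth.Agent.An.H14.AffPts

namespace K824.LogConst

/-- On an affine integral scheme mapping to `X`, a function with a continuous logarithm is constant. -/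
theorem exists_const_of_affine {X Z : Scheme.{0}} [X.Over An.SC] [Z.Over An.SC] [IsAffine Z]
    [IsIntegral Z] [LocallyOfFiniteType (Z ↘ An.SC)] (g : Z ⟶ X) [g.IsOver An.SC] (u : Γ(X, ⊤))
    (lam : An.Pts X → ℂ) (hlam : Continuous lam) (hexp : ∀ x, Complex.exp (lam x) = x.evTop u) :
    ∃ c : ℂ, g.appTop u = An.strHom Z c := by
  let _ : Algebra ℂ Γ(Z, ⊤) := (An.strHom Z).toAlgebra
  have hft : Algebra.FiniteType ℂ Γ(Z, ⊤) := by
    have h := Groth.Agent.An.H867.Nhds.finiteType_strU (X := Z) ⊤ (isAffineOpen_top Z)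
    rw [Groth.Agent.An.H862.AffTop.strU_top] at h
    exact h
  choose P hP using fun x : Γ(Z, ⊤) →ₐ[ℂ] ℂ =>
    exists_of_ringHom (X := Z) (x : Γ(Z, ⊤) →+* ℂ) (fun c => x.commutes c)
  have hP' : ∀ x f, (P x).evTop f = x f := fun x f => congrArg (fun φ => φ f) (hP x)
  have hPc : @Continuous _ _
      (TopologicalSpace.induced (fun (x : Γ(Z, ⊤) →ₐ[ℂ] ℂ) (a : Γ(Z, ⊤)) => x a) Pi.topologicalSpace) _
      P := by
    let _ : TopologicalSpace (Γ(Z, ⊤) →ₐ[ℂ] ℂ) :=
      TopologicalSpace.induced (fun x (a : Γ(Z, ⊤)) => x a) Pi.topologicalSpace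
    refine continuous_of_evTop P fun f => ?_
    simp only [hP']
    exact (continuous_apply f).comp continuous_induced_dom
  obtain ⟨c, hc⟩ := LogAlg.eq_const Γ(Z, ⊤) (g.appTop u)
    (fun x => lam (An.Pts.map g (P x)))
    (@Continuous.comp _ _ _
      (TopologicalSpace.induced (fun (x : Γ(Z, ⊤) →ₐ[ℂ] ℂ) (a : Γ(Z, ⊤)) => x a) Pi.topologicalSpace)
      _ _ P (fun q => lam (An.Pts.map g q)) (hlam.comp (An.Pts.continuous_map g)) hPc)
    (fun x => by rw [hexp, evTop_map, hP'])
  exact ⟨c, hc.symm⟩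

variable {X : Scheme.{0}} [X.Over An.SC]

theorem strHom_naturality {Z : Scheme.{0}} [Z.Over An.SC] (g : Z ⟶ X) [g.IsOver An.SC] (c : ℂ) :
    g.appTop (An.strHom X c) = An.strHom Z c := by
  have h1 : g ≫ (X ↘ An.SC) = Z ↘ An.SC := comp_over g An.SC
  have h2 : (Z ↘ An.SC).appTop = (X ↘ An.SC).appTop ≫ g.appTop := by
    rw [← Scheme.Hom.comp_appTop, h1]
  change _ = (Z ↘ An.SC).appTop ((Scheme.ΓSpecIso (CommRingCat.of ℂ)).inv c)
  rw [h2]
  rfl

theorem mem_basicOpen_iff (u : Γ(X, ⊤)) (x : An.Pts X) (c : ℂ) :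
    x.pt ∈ X.basicOpen (u - An.strHom X c) ↔ x.evTop u ≠ c := by
  rw [← ev_ne_zero_iff x ⊤ (Opens.mem_top _), ev_sub]
  have h1 : x.ev ⊤ (Opens.mem_top _) (An.strHom X c) = c := evTop_strHom x c
  rw [h1, sub_ne_zero]

/-- A function with a continuous logarithm is constant on irreducible closed subsets. -/
theorem exists_const_of_irreducible [LocallyOfFiniteType (X ↘ An.SC)] (u : Γ(X, ⊤))
    (lam : An.Pts X → ℂ) (hlam : Continuous lam) (hexp : ∀ x, Complex.exp (lam x) = x.evTop u) (η : X) :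
    ∃ c : ℂ, ∀ z ∈ closure ({η} : Set X), z ∉ X.basicOpen (u - An.strHom X c) := by
  obtain ⟨W, i, hi, hW, hη, hr⟩ := Groth.Agent.Fga.IntegralSub.exists_integral_closed η
  obtain ⟨U, hU, hηU⟩ : ∃ U : W.Opens, IsAffineOpen U ∧ genericPoint W ∈ U := by
    obtain ⟨_, ⟨U, hU, rfl⟩, hηU, -⟩ :=
      W.isBasis_affineOpens.exists_subset_of_mem_open (Set.mem_univ (genericPoint W)) isOpen_univ
    exact ⟨U, hU, hηU⟩
  let _ : W.Over An.SC := ⟨i ≫ (X ↘ An.SC)⟩
  let Z : Scheme.{0} := U
  have hZaff : IsAffine Z := hU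
  have hne : Nonempty Z := ⟨⟨_, hηU⟩⟩
  have hZint : IsIntegral Z := isIntegral_of_isOpenImmersion U.ι
  let g : Z ⟶ X := U.ι ≫ i
  let _ : Z.Over An.SC := ⟨g ≫ (X ↘ An.SC)⟩
  have hg : g.IsOver An.SC := ⟨rfl⟩
  have hlft : LocallyOfFiniteType (Z ↘ An.SC) :=
    inferInstanceAs (LocallyOfFiniteType ((U.ι ≫ i) ≫ (X ↘ An.SC)))
  obtain ⟨c, hc⟩ := exists_const_of_affine g u lam hlam hexp
  refine ⟨c, fun z hz hz' => ?_⟩
  have h1 : η ∈ X.basicOpen (u - An.strHom X c) :=
    (specializes_iff_mem_closure.2 hz).mem_open (X.basicOpen _).isOpen hz'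
  have h2 : (⟨genericPoint W, hηU⟩ : Z) ∈ g ⁻¹ᵁ X.basicOpen (u - An.strHom X c) := by
    change i (genericPoint W) ∈ X.basicOpen (u - An.strHom X c)
    rw [hη]
    exact h1
  have h3 : g ⁻¹ᵁ X.basicOpen (u - An.strHom X c) = ⊥ := by
    rw [Scheme.preimage_basicOpen]
    have h4 : g.app ⊤ (u - An.strHom X c) = 0 := by
      have h5 : g.appTop (u - An.strHom X c) = 0 := by
        rw [map_sub, hc, strHom_naturality, sub_self]
      exact h5
    rw [h4, Scheme.basicOpen_zero]
  rw [h3] at h2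
  exact h2

/-- On a connected scheme of finite type, a function with a continuous logarithm is constant. -/
theorem evTop_eq_of_log [LocallyOfFiniteType (X ↘ An.SC)] [QuasiCompact (X ↘ An.SC)] [ConnectedSpace X]
    (u : Γ(X, ⊤)) (lam : An.Pts X → ℂ) (hlam : Continuous lam)
    (hexp : ∀ x, Complex.exp (lam x) = x.evTop u) (x y : An.Pts X) : x.evTop u = y.evTop u := by
  have hN : IsNoetherian X := by
    have : IsLocallyNoetherian X := LocallyOfFiniteType.isLocallyNoetherian (X ↘ An.SC)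
    have : CompactSpace X := QuasiCompact.compactSpace_of_compactSpace (X ↘ An.SC)
    exact {}
  have hfin : Finite (irreducibleComponents X) := NoetherianSpace.finite_irreducibleComponents
  have key := TopChain.chain (Y := X) (ι := irreducibleComponents X) (fun C => C.1)
    (fun C => isClosed_of_mem_irreducibleComponents C.1 C.2)
    (fun z => ⟨⟨irreducibleComponent z, irreducibleComponent_mem_irreducibleComponents z⟩,
      mem_irreducibleComponent⟩)
    (fun a b => ∀ c : ℂ, a ∈ X.basicOpen (u - An.strHom X c) ↔ b ∈ X.basicOpen (u - An.strHom X c))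
    (fun a b d h h' c => (h c).trans (h' c)) (by
      rintro ⟨C, hC⟩ a ha b hb hac hbc c
      obtain ⟨η, hη⟩ := QuasiSober.sober hC.1 (isClosed_of_mem_irreducibleComponents C hC)
      obtain ⟨c₀, hc₀⟩ := exists_const_of_irreducible u lam hlam hexp η
      have hη' : closure {η} = C := hη
      rw [hη'] at hc₀
      obtain ⟨a', rfl⟩ := exists_pt_eq a hac
      obtain ⟨b', rfl⟩ := exists_pt_eq b hbc
      have e1 : a'.evTop u = c₀ := by
        by_contra hne
        exact hc₀ _ ha ((mem_basicOpen_iff u a' c₀).2 hne)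
      have e2 : b'.evTop u = c₀ := by
        by_contra hne
        exact hc₀ _ hb ((mem_basicOpen_iff u b' c₀).2 hne)
      rw [mem_basicOpen_iff, mem_basicOpen_iff, e1, e2])
    x.pt y.pt (isClosed_pt x) (isClosed_pt y)
  have h1 := key (x.evTop u)
  rw [mem_basicOpen_iff, mem_basicOpen_iff] at h1
  by_contra hne
  exact h1.2 (Ne.symm hne) rfl

/-- A null-homotopic map to `ℂ^×` has a continuous logarithm. -/
theorem exists_log {T : Type*} [TopologicalSpace T] (φ : C(T, {z : ℂ // z ≠ 0}))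
    (z₀ : {z : ℂ // z ≠ 0}) (hnull : φ.Homotopic (ContinuousMap.const T z₀)) :
    ∃ lam : T → ℂ, Continuous lam ∧ ∀ x, Complex.exp (lam x) = (φ x).1 := by
  obtain ⟨H⟩ := hnull.symm
  have cov := Complex.isCoveringMap_exp
  have H0 : ∀ a, H (0, a) = (⟨Complex.exp ((ContinuousMap.const T (Complex.log z₀.1)) a),
      Complex.exp_ne_zero _⟩ : {z : ℂ // z ≠ 0}) := by
    intro a
    rw [H.apply_zero]
    apply Subtype.ext
    exact (Complex.exp_log z₀.2).symm
  let G := cov.liftHomotopy H.toContinuousMap (ContinuousMap.const T (Complex.log z₀.1)) H0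
  refine ⟨fun x => G (1, x), G.continuous.comp (by fun_prop), fun x => ?_⟩
  have h1 := congrFun (cov.liftHomotopy_lifts H.toContinuousMap
    (ContinuousMap.const T (Complex.log z₀.1)) H0) (1, x)
  have h2 : H (1, x) = φ x := H.apply_one x
  rw [← h2]
  exact congrArg Subtype.val h1

end K824.LogConst
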