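import Groth.Agent.Flat2E.FinSepClosure
import Mathlib.RingTheory.AdjoinRoot
import Mathlib.FieldTheory.IsAlgClosed.Basic
import Mathlib.Algebra.Polynomial.Expand
import Mathlib.Algebra.Polynomial.SpecificDegree
import Mathlib.FieldTheory.RatFunc.Basic

/-!
# Roots of a transcendental element in a finitely generated field extension
-/

set_option autoImplicit false
universe u

open Polynomial

namespace K824.RootBound

/-- If `v` is transcendental over `k` then `1, v, …, v ^ (n - 1)` are linearly independent over the
polynomial ring `k[X]` acting through `X ↦ v ^ n`. -/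
theorem linearIndependent_pow {k K : Type u} [Field k] [Field K] [Algebra k K] {v : K}
    (hv : Transcendental k v) {n : ℕ} (c : Fin n → k[X])
    (h : ∑ i, aeval (v ^ n) (c i) * v ^ (i : ℕ) = 0) : ∀ i, c i = 0 := by
  classical
  rcases Nat.eq_zero_or_pos n with rfl | hn
  · intro i; exact i.elim0
  let P : k[X] := ∑ i, expand k n (c i) * X ^ (i : ℕ)
  have hP : aeval v P = 0 := by
    rw [← h]
    simp [P, map_sum, expand_aeval]
  have hP0 : P = 0 := (transcendental_iff.1 hv) P hP
  intro i
  ext j
  have h1 : P.coeff (n * j + i) = 0 := by rw [hP0, coeff_zero]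
  have h2 : P.coeff (n * j + i) = (c i).coeff j := by
    simp only [P, finsetSum_coeff]
    rw [Finset.sum_eq_single i]
    · rw [coeff_mul_X_pow, mul_comm n j, coeff_expand_mul hn]
    · intro b _ hb
      rw [coeff_mul_X_pow']
      split_ifs with hle
      · rw [coeff_expand hn, if_neg]
        intro hdvd
        apply hb
        have h3 : (n * j + (i : ℕ)) % n = (b : ℕ) % n := by
          obtain ⟨t, ht⟩ := hdvd
          have h4 : n * j + (i : ℕ) = n * t + (b : ℕ) := by omega
          rw [h4, Nat.mul_add_mod]
        rw [Nat.mul_add_mod, Nat.mod_eq_of_lt i.2, Nat.mod_eq_of_lt b.2] at h3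
        exact Fin.ext h3.symm
      · rfl
    · intro hi
      exact absurd (Finset.mem_univ i) hi
  rw [← h2, h1, coeff_zero]

/-- A transcendental element of a finitely generated field extension is an `n`-th power for finitely many
`n` only. -/
theorem exists_bound (k K : Type u) [Field k] [Field K] [Algebra k K] [Algebra.EssFiniteType k K]
    {u : K} (hu : Transcendental k u) : ∃ N : ℕ, ∀ (n : ℕ) (v : K), v ^ n = u → n ≤ N := by
  let _ : Algebra k[X] K := (aeval u : k[X] →ₐ[k] K).toRingHom.toAlgebra
  have halg : ∀ p : k[X], algebraMap k[X] K p = aeval u p := fun p => rfl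
  have hinj : Function.Injective (algebraMap k[X] K) := by
    intro p q hpq
    rw [halg, halg] at hpq
    exact transcendental_iff_injective.1 hu hpq
  have hfaith : FaithfulSMul k[X] K := (faithfulSMul_iff_algebraMap_injective k[X] K).2 hinj
  have htow : IsScalarTower k k[X] K := IsScalarTower.of_algebraMap_eq fun a => by
    rw [halg, Polynomial.algebraMap_eq, aeval_C]
  let _ : Algebra (FractionRing k[X]) K := FractionRing.liftAlgebra k[X] K
  have htow2 : IsScalarTower k[X] (FractionRing k[X]) K := inferInstance
  have h1 : Algebra.EssFiniteType k[X] K := .of_comp k k[X] K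
  have h2 : Algebra.EssFiniteType (FractionRing k[X]) K := .of_comp k[X] (FractionRing k[X]) K
  have h3 : FiniteDimensional (FractionRing k[X]) (algebraicClosure (FractionRing k[X]) K) :=
    Groth.Agent.Flat2E.FinSepClosure.finiteDimensional_of_isAlgebraic _
  refine ⟨Module.finrank (FractionRing k[X]) (algebraicClosure (FractionRing k[X]) K), ?_⟩
  intro n v hv
  rcases Nat.eq_zero_or_pos n with rfl | hn
  · exact Nat.zero_le _
  have hvt : Transcendental k v := by
    intro hva
    apply hu
    rw [← hv]
    exact hva.pow n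
  have hvint : IsIntegral (FractionRing k[X]) v := by
    refine IsIntegral.of_pow hn ?_
    rw [hv]
    have : u = algebraMap (FractionRing k[X]) K (algebraMap k[X] (FractionRing k[X]) X) := by
      rw [← IsScalarTower.algebraMap_apply, halg, aeval_X]
    rw [this]
    exact isIntegral_algebraMap
  have hvL : v ∈ algebraicClosure (FractionRing k[X]) K := by
    rw [mem_algebraicClosure_iff]
    exact hvint.isAlgebraic
  let w : Fin n → algebraicClosure (FractionRing k[X]) K := fun i => ⟨v, hvL⟩ ^ (i : ℕ)
  have h4 : LinearIndependent k[X] (fun i : Fin n => v ^ (i : ℕ)) := by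
    rw [Fintype.linearIndependent_iff]
    intro g hg
    refine linearIndependent_pow hvt g ?_
    rw [← hg]
    refine Finset.sum_congr rfl fun i _ => ?_
    rw [hv, Algebra.smul_def, halg]
  have h5 : LinearIndependent (FractionRing k[X]) (fun i : Fin n => v ^ (i : ℕ)) :=
    (LinearIndependent.iff_fractionRing k[X] (FractionRing k[X])).1 h4
  have h6 : LinearIndependent (FractionRing k[X]) w :=
    LinearIndependent.of_comp (algebraicClosure (FractionRing k[X]) K).val.toLinearMap h5
  have h7 := h6.fintype_card_le_finrank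
  rwa [Fintype.card_fin] at h7

/-- For a transcendental element `u` of a finitely generated extension there are a field extension `L`, an
element `y` of `L` with `y ^ m = u` and an automorphism of `L` which changes the sign of `y`. -/
theorem exists_extension (k K : Type u) [Field k] [Field K] [Algebra k K] [Algebra.EssFiniteType k K]
    {u : K} (hu : Transcendental k u) :
    ∃ (L : Type u) (_ : Field L) (_ : Algebra K L) (y : L) (m : ℕ) (σ : L →ₐ[K] L),
      0 < m ∧ y ^ m = algebraMap K L u ∧ σ y = -y := by
  obtain ⟨N, hN⟩ := exists_bound k K hu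
  classical
  let P : ℕ → Prop := fun n => 0 < n ∧ ∃ w : K, w ^ n = u
  have hP1 : P 1 := ⟨Nat.one_pos, u, pow_one u⟩
  have hbdd : ∀ n, P n → n ≤ N := by
    rintro n ⟨-, w, hw⟩
    exact hN n w hw
  let n := Nat.findGreatest P N
  have hn : P n := Nat.findGreatest_spec (m := 1) (hbdd 1 hP1) hP1
  have hmax : ∀ m, P m → m ≤ n := fun m hm => Nat.le_findGreatest (hbdd m hm) hm
  obtain ⟨hn0, w, hw⟩ := hn
  have hnosq : ∀ v : K, v ^ 2 ≠ w := by
    intro v hv
    have h1 : P (2 * n) := ⟨by omega, v, by rw [pow_mul, hv, hw]⟩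
    have h2 := hmax _ h1
    omega
  have hirr : Irreducible (X ^ 2 - C w : K[X]) := by
    refine (Polynomial.Monic.irreducible_iff_roots_eq_zero_of_degree_le_three (monic_X_pow_sub_C w two_ne_zero)
      (by rw [natDegree_X_pow_sub_C]) (by rw [natDegree_X_pow_sub_C]; norm_num)).2 ?_
    rw [Multiset.eq_zero_iff_forall_notMem]
    intro v hv
    rw [mem_roots (monic_X_pow_sub_C w two_ne_zero).ne_zero, IsRoot.def, eval_sub, eval_pow, eval_X,
      eval_C, sub_eq_zero] at hv
    exact hnosq v hv
  have : Fact (Irreducible (X ^ 2 - C w : K[X])) := ⟨hirr⟩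
  have hroot : (AdjoinRoot.root (X ^ 2 - C w : K[X])) ^ 2 =
      algebraMap K (AdjoinRoot (X ^ 2 - C w : K[X])) w := by
    have := AdjoinRoot.eval₂_root (X ^ 2 - C w : K[X])
    rw [eval₂_sub, eval₂_pow, eval₂_X, eval₂_C, sub_eq_zero] at this
    exact this
  refine ⟨AdjoinRoot (X ^ 2 - C w : K[X]), inferInstance, inferInstance,
    AdjoinRoot.root (X ^ 2 - C w : K[X]), 2 * n,
    AdjoinRoot.liftAlgHom (X ^ 2 - C w : K[X]) (Algebra.ofId K _)
      (-AdjoinRoot.root (X ^ 2 - C w : K[X])) ?_, by omega, ?_, ?_⟩
  · rw [eval₂_sub, eval₂_pow, eval₂_X, eval₂_C, neg_sq, hroot, sub_eq_zero]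
    rfl
  · rw [pow_mul, hroot, ← map_pow, hw]
  · exact AdjoinRoot.liftAlgHom_root _ _ _ _

end K824.RootBound
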